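import Mathlib

/-!
# Alternating polynomials in pairs of variables
-/

set_option autoImplicit false

open MvPolynomial

namespace Groth.Agent.AlternantLib

variable (k : Type*) [Field k] {n : ℕ}

/-- The permuted variable. -/
abbrev ren (σ : Equiv.Perm (Fin n)) : Fin n × Fin 2 → Fin n × Fin 2 := fun v => (σ v.1, v.2)

theorem ren_injective (σ : Equiv.Perm (Fin n)) : Function.Injective (ren σ) := fun a b h => by
  have := (Prod.ext_iff.1 h)
  exact Prod.ext (σ.injective this.1) this.2

/-- The exponent vector attached to a tuple of pairs. -/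
noncomputable def expo (p : Fin n → ℕ × ℕ) : Fin n × Fin 2 →₀ ℕ :=
  Finsupp.equivFunOnFinite.symm fun v => if v.2 = 0 then (p v.1).1 else (p v.1).2

theorem expo_injective : Function.Injective (expo (n := n)) := fun p q h => by
  funext i
  have h0 := DFunLike.congr_fun h (i, 0)
  have h1 := DFunLike.congr_fun h (i, 1)
  simp [expo] at h0 h1
  exact Prod.ext h0 h1

theorem expo_surjective (m : Fin n × Fin 2 →₀ ℕ) : expo (fun i => (m (i, 0), m (i, 1))) = m := by
  ext ⟨i, j⟩
  fin_cases j <;> simp [expo]

theorem mapDomain_expo (σ : Equiv.Perm (Fin n)) (p : Fin n → ℕ × ℕ) :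
    (expo p).mapDomain (ren σ) = expo (p ∘ σ.symm) := by
  ext ⟨i, j⟩
  have h : (i, j) = ren σ (σ.symm i, j) := by simp [ren]
  rw [h, Finsupp.mapDomain_apply (ren_injective σ)]
  simp [expo, ren]

/-- The alternant. -/
noncomputable abbrev alt (p : Fin n → ℕ × ℕ) : MvPolynomial (Fin n × Fin 2) k :=
  (Matrix.of fun i j : Fin n =>
    (X (i, 0) : MvPolynomial (Fin n × Fin 2) k) ^ (p j).1 * X (i, 1) ^ (p j).2).det

theorem prod_eq_monomial (p : Fin n → ℕ × ℕ) :
    (∏ j : Fin n, (X (j, 0) : MvPolynomial (Fin n × Fin 2) k) ^ (p j).1 * X (j, 1) ^ (p j).2) = monomial (expo p) 1 := by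
  rw [monomial_eq, C_1, one_mul, Finsupp.prod_fintype _ _ (fun _ => pow_zero _), Fintype.prod_prod_type]
  simp [Fin.prod_univ_two, expo]

theorem alt_eq_sum (p : Fin n → ℕ × ℕ) :
    alt k p = ∑ σ : Equiv.Perm (Fin n), ((Equiv.Perm.sign σ : ℤˣ) : ℤ) • rename (ren σ) (monomial (expo p) (1 : k)) := by
  rw [alt, Matrix.det_apply]
  refine Finset.sum_congr rfl fun σ _ => ?_
  rw [← prod_eq_monomial, map_prod, Units.smul_def]
  congr 1
  refine Finset.prod_congr rfl fun j _ => ?_
  simp [ren]

/-- The antisymmetrisation. -/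
noncomputable def asym (f : MvPolynomial (Fin n × Fin 2) k) : MvPolynomial (Fin n × Fin 2) k :=
  ∑ σ : Equiv.Perm (Fin n), ((Equiv.Perm.sign σ : ℤˣ) : ℤ) • rename (ren σ) f

theorem rename_asym (τ : Equiv.Perm (Fin n)) (f : MvPolynomial (Fin n × Fin 2) k) :
    rename (ren τ) (asym k f) = ((Equiv.Perm.sign τ : ℤˣ) : ℤ) • asym k f := by
  simp only [asym, map_sum, map_zsmul, Finset.smul_sum, rename_rename, smul_smul]
  refine Fintype.sum_equiv (Equiv.mulLeft τ) _ _ fun σ => ?_
  simp only [Equiv.coe_mulLeft, map_mul, Units.val_mul]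
  rw [← mul_assoc, ← Units.val_mul, Int.units_mul_self, Units.val_one, one_mul]
  rfl

theorem mem_span_iff [CharZero k] (f : MvPolynomial (Fin n × Fin 2) k) :
    (∀ σ : Equiv.Perm (Fin n), rename (ren σ) f = ((Equiv.Perm.sign σ : ℤˣ) : ℤ) • f) ↔
      f ∈ Submodule.span k (Set.range fun p : Fin n → ℕ × ℕ => alt k p) := by
  constructor
  · intro hf
    have hsum : asym k f = (Fintype.card (Equiv.Perm (Fin n)) : k) • f := by
      simp only [asym, hf, smul_smul, ← Units.val_mul, Int.units_mul_self, Units.val_one, one_smul,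
        Finset.sum_const, Finset.card_univ]
      exact (Nat.cast_smul_eq_nsmul k _ _).symm
    have hne : (Fintype.card (Equiv.Perm (Fin n)) : k) ≠ 0 := Nat.cast_ne_zero.2 Fintype.card_ne_zero
    rw [← inv_smul_smul₀ hne f, ← hsum]
    refine Submodule.smul_mem _ _ ?_
    rw [asym]
    conv => enter [2, 2, σ]; rw [f.as_sum, map_sum, Finset.smul_sum]
    rw [Finset.sum_comm]
    refine Submodule.sum_mem _ fun m _ => ?_
    have : (∑ σ : Equiv.Perm (Fin n), ((Equiv.Perm.sign σ : ℤˣ) : ℤ) • rename (ren σ) (monomial m (f.coeff m))) =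
        f.coeff m • alt k (fun i => (m (i, 0), m (i, 1))) := by
      rw [alt_eq_sum, expo_surjective, Finset.smul_sum]
      refine Finset.sum_congr rfl fun σ _ => ?_
      rw [smul_comm (f.coeff m), ← map_smul (rename (ren σ)) (f.coeff m), smul_monomial, smul_eq_mul, mul_one]
    rw [this]
    exact Submodule.smul_mem _ _ (Submodule.subset_span ⟨_, rfl⟩)
  · intro hf σ
    induction hf using Submodule.span_induction with
    | mem x hx =>
      obtain ⟨p, rfl⟩ := hx
      have : alt k p = asym k (monomial (expo p) 1) := alt_eq_sum k p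
      simp only [this]
      exact rename_asym k σ _
    | zero => simp
    | add x y _ _ hx hy => rw [map_add, hx, hy, smul_add]
    | smul c x _ hx => rw [map_smul, hx, smul_comm]

theorem linearIndependent_alt :
    LinearIndependent k (fun p : {p : Fin n → ℕ ×ₗ ℕ // StrictMono p} => alt k fun j => ofLex (p.1 j)) := by
  classical
  have key : ∀ p q : {p : Fin n → ℕ ×ₗ ℕ // StrictMono p},
      (alt k fun j => ofLex (p.1 j)).coeff (expo fun j => ofLex (q.1 j)) = if p = q then 1 else 0 := by
    intro p q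
    have hiff : ∀ σ : Equiv.Perm (Fin n),
        (expo ((fun j => ofLex (p.1 j)) ∘ σ.symm) = expo fun j => ofLex (q.1 j)) ↔ p = q ∧ σ = 1 := by
      intro σ
      constructor
      · intro h
        have h' : p.1 ∘ σ.symm = q.1 := funext fun j => ofLex_inj.1 (congr_fun (expo_injective h) j)
        have hr : Set.range q.1 = Set.range p.1 := by rw [← h', σ.symm.surjective.range_comp]
        have hpq : p = q := Subtype.ext (p.2.range_inj q.2 |>.1 hr.symm)
        refine ⟨hpq, Equiv.ext fun j => ?_⟩
        have := congr_fun h' (σ j)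
        rw [Function.comp_apply, σ.symm_apply_apply, hpq] at this
        exact (q.2.injective this).symm
      · rintro ⟨rfl, rfl⟩; rfl
    simp only [alt_eq_sum, coeff_sum, rename_monomial, mapDomain_expo, ← map_zsmul, coeff_monomial, hiff]
    by_cases hpq : p = q
    · simp [hpq]
    · simp [hpq]
  rw [linearIndependent_iff']
  intro s g hg i hi
  have := congrArg (MvPolynomial.coeff (expo fun j => ofLex (i.1 j))) hg
  simpa [coeff_sum, key, hi] using this

end Groth.Agent.AlternantLib
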